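import Groth.Agent.GeomProp.SchemeGeom
import Groth.Agent.NormalBC.Apps
import Groth.Agent.S14401
import Groth.Agent.LocNoethTop.Basic

/-!
Base change of geometrically normal schemes to arbitrary field extensions, and the decomposition of a normal
Noetherian scheme into integral clopen pieces.
-/

set_option autoImplicit false
set_option linter.style.haveILetI false

universe u

open CategoryTheory CategoryTheory.Limits AlgebraicGeometry TopologicalSpace

noncomputable section

namespace Groth.Agent.PicProper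

attribute [local instance] Curv2.stalkAlgebra

open scoped TensorProduct in
/-- Normality after finite extensions gives normality of the product with a normal scheme. -/
theorem isNormalScheme_prod (k : Type u) [Field k] (X : Scheme.{u}) [X.Over (Spec (CommRingCat.of k))] (Y : Scheme.{u}) [Y.Over (Spec (CommRingCat.of k))]
    (hX : ∀ (K : Type u) [Field K] [Algebra k K], Module.Finite k K → Pi1.IsNormalScheme (Curv2.bc k X K)) (hY : Pi1.IsNormalScheme Y) :
    Pi1.IsNormalScheme (pullback (X ↘ (Spec (CommRingCat.of k))) (Y ↘ (Spec (CommRingCat.of k)))) := by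
  intro z
  let p := X ↘ Spec (CommRingCat.of k)
  let q := Y ↘ Spec (CommRingCat.of k)
  let x := pullback.fst p q z
  let y := pullback.snd p q z
  let A := X.presheaf.stalk x
  let B := Y.presheaf.stalk y
  haveI := GrpField.flat_fromSpecStalk x
  haveI := GrpField.flat_fromSpecStalk y
  let m := pullback.map (X.fromSpecStalk x ≫ p) (Y.fromSpecStalk y ≫ q) p q (X.fromSpecStalk x) (Y.fromSpecStalk y)
    (𝟙 _) (Category.comp_id _) (Category.comp_id _)
  haveI : Flat m := MorphismProperty.pullbackMap (P := @Flat) inferInstance inferInstance rfl rfl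
  haveI : IsPreimmersion m := MorphismProperty.pullbackMap (P := @IsPreimmersion) inferInstance inferInstance rfl rfl
  let e : pullback (X.fromSpecStalk x ≫ p) (Y.fromSpecStalk y ≫ q) ≅ Spec (CommRingCat.of (A ⊗[k] B)) :=
    pullback.congrHom (GeomProp.fromSpecStalk_over k X x) (GeomProp.fromSpecStalk_over k Y y) ≪≫
      pullbackSpecIso k A B
  let g : Spec (CommRingCat.of (A ⊗[k] B)) ⟶ pullback p q := e.inv ≫ m
  haveI : Flat g := inferInstanceAs (Flat (e.inv ≫ m))
  haveI : IsPreimmersion g := inferInstanceAs (IsPreimmersion (e.inv ≫ m))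
  obtain ⟨w, hw⟩ : z ∈ Set.range m := by
    rw [Scheme.Pullback.range_map]
    exact ⟨⟨IsLocalRing.closedPoint A, Scheme.fromSpecStalk_closedPoint⟩,
      ⟨IsLocalRing.closedPoint B, Scheme.fromSpecStalk_closedPoint⟩⟩
  have hz : g (e.hom w) = z := by
    show (e.hom ≫ e.inv ≫ m) w = z
    rw [Iso.hom_inv_id_assoc, hw]
  let Q := e.hom w
  have hAB : EGA4.IsNormalRing (A ⊗[k] B) := by
    refine NormalBC.isNormalRing_tensor_geomNormal k A B (fun k' _ _ hfin => ?_) ?_
    · haveI := hfin
      exact GeomProp.normal_tensor_of_stalks k X x k' fun x' _ => hX k' hfin x'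
    · obtain ⟨_, _⟩ := hY y
      exact GeomProp.isNormalRing_of_domain B
  obtain ⟨_, _⟩ := hAB Q.asIdeal
  let E : Localization.AtPrime Q.asIdeal ≃+* (pullback p q).presheaf.stalk (g Q) :=
    ((StructureSheaf.stalkIso _ Q).toRingEquiv).trans
      (RingEquiv.ofBijective (g.stalkMap Q).hom (GeomProp.bijective_stalkMap g Q)).symm
  rw [← hz]
  exact ⟨E.symm.toMulEquiv.isDomain (Localization.AtPrime Q.asIdeal),
    IsIntegrallyClosed.of_equiv (R := Localization.AtPrime Q.asIdeal) E⟩


theorem isNormalScheme_spec_field (K : Type u) [Field K] : Pi1.IsNormalScheme (Spec (CommRingCat.of K)) := by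
  intro z
  let E : Localization.AtPrime z.asIdeal ≃+* (Spec (CommRingCat.of K)).presheaf.stalk z :=
    (StructureSheaf.stalkIso _ z).toRingEquiv
  have hN : EGA4.IsNormalRing K := GeomProp.isNormalRing_of_domain K
  obtain ⟨_, _⟩ := hN z.asIdeal
  exact ⟨E.symm.toMulEquiv.isDomain (Localization.AtPrime z.asIdeal),
    IsIntegrallyClosed.of_equiv (R := Localization.AtPrime z.asIdeal) E⟩

/-- A geometrically normal scheme is normal over every extension field. -/
theorem isNormalScheme_bc {k : Type u} [Field k] {X : Scheme.{u}} (f : X ⟶ Spec (CommRingCat.of k))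
    (hnorm : ∀ (k' : Type u) [Field k'] [Algebra k k'], Module.Finite k k' →
      Pi1.IsNormalScheme (pullback f (Spec.map (CommRingCat.ofHom (algebraMap k k')))))
    (K : Type u) [Field K] [Algebra k K] :
    Pi1.IsNormalScheme (pullback f (Spec.map (CommRingCat.ofHom (algebraMap k K)))) := by
  letI : X.Over (Spec (CommRingCat.of k)) := ⟨f⟩
  letI : (Spec (CommRingCat.of K)).Over (Spec (CommRingCat.of k)) := ⟨Spec.map (CommRingCat.ofHom (algebraMap k K))⟩
  exact isNormalScheme_prod k X (Spec (CommRingCat.of K)) (fun L _ _ h => hnorm L h) (isNormalScheme_spec_field K)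

/-- A normal Noetherian scheme is a finite disjoint union of integral clopen subschemes. -/
theorem exists_components (X : Scheme.{u}) [IsNoetherian X] (hX : Pi1.IsNormalScheme X) :
    ∃ (κ : Type u) (_ : Finite κ) (O : κ → X.Opens), (∀ i, IsClosed (O i : Set X)) ∧
      (∀ i, IsIntegral (O i : Scheme.{u})) ∧ (Pairwise fun a b => Disjoint (O a) (O b)) ∧
      (∀ x : X, ∃ i, x ∈ O i) ∧ ∀ i, Pi1.IsNormalScheme (O i : Scheme.{u}) := by
  haveI : IsReduced X := by
    haveI : ∀ x : X, _root_.IsReduced (X.presheaf.stalk x) := fun x => haveI := (hX x).1; inferInstance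
    exact isReduced_of_isReduced_stalk X
  haveI : NoetherianSpace X := inferInstance
  have hopen := fun (Z : Set X) (hZ : Z ∈ irreducibleComponents X) => (S14401.result X fun z => (hX z).1).1 Z hZ
  refine ⟨irreducibleComponents X, NoetherianSpace.finite_irreducibleComponents.to_subtype,
    fun Z => ⟨Z.1, hopen Z.1 Z.2⟩, fun Z => isClosed_of_mem_irreducibleComponents _ Z.2, fun Z => ?_, ?_, ?_, fun Z => ?_⟩
  · let O : X.Opens := ⟨Z.1, hopen Z.1 Z.2⟩
    haveI : Nonempty O := ⟨⟨_, Z.2.1.nonempty.some_mem⟩⟩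
    haveI : PreirreducibleSpace O := Subtype.preirreducibleSpace Z.2.1.2
    haveI : IrreducibleSpace O := ⟨‹Nonempty O›⟩
    haveI : IrreducibleSpace O.toScheme := ‹IrreducibleSpace O›
    exact isIntegral_of_irreducibleSpace_of_isReduced _
  · intro Z W hZW
    refine disjoint_iff.2 (Opens.ext (Set.eq_empty_iff_forall_notMem.2 fun x hx => hZW (Subtype.ext ?_)))
    obtain ⟨h1, h2⟩ := (show x ∈ Z.1 ∧ x ∈ W.1 from hx)
    have hsub : ∀ A B : irreducibleComponents X, x ∈ A.1 → x ∈ B.1 → A.1 ⊆ B.1 := fun A B hA hB => by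
      have hc : IsClopen B.1 := ⟨isClosed_of_mem_irreducibleComponents _ B.2, hopen _ B.2⟩
      exact A.2.1.isPreirreducible.isPreconnected.subset_isClopen hc ⟨x, hA, hB⟩
    exact (hsub Z W h1 h2).antisymm (hsub W Z h2 h1)
  · exact fun x => ⟨⟨irreducibleComponent x, irreducibleComponent_mem_irreducibleComponents x⟩, mem_irreducibleComponent⟩
  · intro z
    let e := (asIso ((Scheme.Opens.ι (⟨Z.1, hopen Z.1 Z.2⟩ : X.Opens)).stalkMap z)).commRingCatIsoToRingEquiv
    obtain ⟨_, _⟩ := hX ((Scheme.Opens.ι (⟨Z.1, hopen Z.1 Z.2⟩ : X.Opens)) z)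
    exact ⟨e.symm.toMulEquiv.isDomain _, IsIntegrallyClosed.of_equiv e⟩

end Groth.Agent.PicProper
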