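import Groth.Agent.PicProper.LineCore
import Groth.Agent.PicProper.Normal
import Groth.Agent.PicLft.Group
import Groth.Agent.LBDesc.Sigma

/-!
Morphisms from opens of affine space to the Picard scheme of a proper normal scheme are constant.
-/

set_option autoImplicit false
set_option backward.isDefEq.respectTransparency false
set_option backward.isDefEq.respectTransparency.types false
set_option linter.style.haveILetI false
set_option maxHeartbeats 1000000

universe u

open CategoryTheory CategoryTheory.Limits AlgebraicGeometry TopologicalSpace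
open Groth.Agent.W7Cube (pull pull_pull)
open PicF (XT XTmap secT)

noncomputable section

namespace Groth.Agent.PicProper

open Groth.Agent.W7Cube in
attribute [local instance] law

theorem exists_nhd_trivial {Y : Scheme.{u}} (N : PicLoc.PicSet Y) (y : Y) :
    ∃ W : Y.Opens, y ∈ W ∧ pull W.ι N = 1 := by
  obtain ⟨L, hL, rfl⟩ := PicGrp.exists_eq_cls N
  obtain ⟨W, t, hy, ht⟩ := TMul.exists_isGen hL y
  obtain ⟨i⟩ := InvGen.nonempty_iso W.ι L (U := W) (by rw [Scheme.Opens.opensRange_ι]) t ht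
  exact ⟨W, hy, Subtype.ext (Quot.sound ⟨((Scheme.Modules.restrictFunctorIsoPullback W.ι).app L).symm ≪≫ i⟩)⟩

theorem nat_pull {S Y : Scheme.{u}} {g₀ : Y ⟶ S} {Q : Over S} {ψ : ∀ T : Over S, PicF.Cl (XT g₀ T) → (T ⟶ Q)}
    (hQ : PicRel.IsRelPic g₀ Q ψ) {T T' : Over S} (g : T' ⟶ T) (c : PicLoc.PicSet (XT g₀ T)) :
    ψ T' (pull (XTmap g₀ g) c).1 = g ≫ ψ T c.1 :=
  hQ.natural T T' g c.1 c.2

variable {k : Type u} [Field k] {X : Scheme.{u}} (f : X ⟶ Spec (CommRingCat.of k)) [IsProper f]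

/-- A class on `X × U` which is, componentwise, a product class agrees near every point with a constant one. -/
theorem exists_near_const {κ : Type u} (O : κ → X.Opens) (hdisj : Pairwise fun a b => Disjoint (O a) (O b))
    (hcov : ∀ x : X, ∃ i, x ∈ O i) [Finite κ] (A : Over (Spec (CommRingCat.of k))) (c : PicLoc.PicSet (XT f A))
    (hc : ∀ i, ∃ (m : PicLoc.PicSet (O i : Scheme.{u})) (N : PicLoc.PicSet A.left),
      pull (pullback.map ((O i).ι ≫ f) A.hom f A.hom (O i).ι (𝟙 _) (𝟙 _) (by simp) (by simp)) c =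
        pull (pullback.fst ((O i).ι ≫ f) A.hom) m * pull (pullback.snd ((O i).ι ≫ f) A.hom) N) :
    ∃ M : PicLoc.PicSet X, ∀ a : A.left, ∃ W : A.left.Opens, a ∈ W ∧
      pull (XTmap f (AbDual.ovrHom A W.ι)) c = pull (XTmap f (AbDual.ovrHom A W.ι)) (pull (pullback.fst f A.hom) M) := by
  choose m N hmN using hc
  have hd : Pairwise fun a b => Disjoint (O a).ι.opensRange (O b).ι.opensRange := fun a b hab => by
    simp only [Scheme.Opens.opensRange_ι]; exact hdisj hab
  choose L hL hLm using fun i => PicGrp.exists_eq_cls (m i)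
  obtain ⟨M, hM, hMi⟩ := LBDesc.exists_invertible_disjointUnion (fun i => (O i).ι) hd
    (fun x => (hcov x).imp fun i hi => ⟨⟨x, hi⟩, rfl⟩) L hL
  refine ⟨PicGrp.cls M hM, fun a => ?_⟩
  choose W haW hW using fun i => exists_nhd_trivial (N i) a
  let W0 : A.left.Opens := ⟨⋂ i, (W i : Set A.left), isOpen_iInter_of_finite fun i => (W i).2⟩
  have ha0 : a ∈ W0 := Set.mem_iInter.2 haW
  refine ⟨W0, ha0, ?_⟩
  let g := AbDual.ovrHom A W0.ι
  let B := AbDual.ovr A W0.ι
  rw [← mul_inv_eq_one, ← map_inv, ← map_mul]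
  set d := pull (XTmap f g) (c * (pull (pullback.fst f A.hom) (PicGrp.cls M hM))⁻¹) with hd'
  obtain ⟨D, hD, hDd⟩ := PicGrp.exists_eq_cls d
  let P := fun i => pullback.fst f B.hom ⁻¹ᵁ O i
  have hP : Pairwise fun a b => Disjoint (P a).ι.opensRange (P b).ι.opensRange := fun i j hij => by
    simp only [Scheme.Opens.opensRange_ι]
    refine disjoint_iff.2 (Opens.ext (Set.eq_empty_iff_forall_notMem.2 fun x hx => ?_))
    exact (hdisj hij).le_bot (show pullback.fst f B.hom x ∈ O i ⊓ O j from hx)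
  obtain ⟨t⟩ := LBDesc.trivial_of_disjointUnion (fun i => (P i).ι) hP
    (fun x => (hcov (pullback.fst f B.hom x)).imp fun i hi => ⟨⟨x, hi⟩, rfl⟩) D (fun i => by
      let q : (P i : Scheme.{u}) ⟶ pullback ((O i).ι ≫ f) B.hom :=
        pullback.lift ((pullback.fst f B.hom) ∣_ (O i)) ((P i).ι ≫ pullback.snd f B.hom) (by
          rw [← Category.assoc, morphismRestrict_ι, Category.assoc, Category.assoc, pullback.condition])
      let J := pullback.map ((O i).ι ≫ f) A.hom f A.hom (O i).ι (𝟙 _) (𝟙 _) (by simp) (by simp)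
      let G := pullback.map ((O i).ι ≫ f) B.hom ((O i).ι ≫ f) A.hom (𝟙 _) g.left (𝟙 _) (by simp) (by rw [Category.comp_id]; exact (Over.w g).symm)
      have hq : (P i).ι ≫ XTmap f g = (q ≫ G) ≫ J := by
        apply pullback.hom_ext
        · simp [q, G, J, XTmap]; rfl
        · simp [q, G, J, XTmap]
      have hN : pull g.left (N i) = 1 := by
        have hle : W0 ≤ W i := fun x hx => Set.mem_iInter.1 hx i
        rw [show g.left = A.left.homOfLE hle ≫ (W i).ι from (Scheme.homOfLE_ι _ hle).symm, ← pull_pull, hW, map_one]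
      have hm : m i = pull (O i).ι (PicGrp.cls M hM) := by
        rw [hLm i]; exact Subtype.ext (Quot.sound ⟨(hMi i).some.symm⟩)
      have h1 : pull (P i).ι d = 1 := by
        rw [hd', pull_pull, hq, ← pull_pull, ← pull_pull, map_mul, map_inv, hmN i, map_mul, map_inv, map_mul, map_inv,
          map_mul (pull G) , pull_pull G (pullback.fst _ _), pull_pull G (pullback.snd _ _),
          show G ≫ pullback.snd ((O i).ι ≫ f) A.hom = pullback.snd _ _ ≫ g.left from pullback.lift_snd _ _ _,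
          ← pull_pull (pullback.snd _ _) g.left, hN, map_one, mul_one, pull_pull J (pullback.fst _ _),
          show J ≫ pullback.fst f A.hom = pullback.fst _ _ ≫ (O i).ι from pullback.lift_fst _ _ _,
          ← pull_pull (pullback.fst _ _) (O i).ι, ← hm, pull_pull G (pullback.fst _ _)]
        exact mul_inv_cancel _
      exact PicFam.nonempty_iso_of_cl_eq (congrArg Subtype.val (hDd ▸ h1 : pull (P i).ι (PicGrp.cls D hD) = 1)))
  exact hDd.trans (Subtype.ext (Quot.sound ⟨t⟩))

variable [IsAlgClosed k] (hX : Pi1.IsNormalScheme X) {P : Over (Spec (CommRingCat.of k))}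
  {φ : ∀ T : Over (Spec (CommRingCat.of k)), PicF.Cl (PicF.XT f T) → (T ⟶ P)} (hP : PicRel.IsRelPic f P φ)

include hX hP in
/-- **No rational curves on the Picard scheme of a normal proper scheme.** -/
theorem exists_eq_const [IsSeparated P.hom] {n : Type u} [Finite n]
    (V : (𝔸(n; Spec (CommRingCat.of k))).Opens) [Nonempty ↥(affOpen V).left] (ψ : affOpen V ⟶ P) :
    ∃ q : Spec (CommRingCat.of k) ⟶ P.left, q ≫ P.hom = 𝟙 _ ∧ ψ.left = (affOpen V).hom ≫ q := by
  haveI : IsIntegral 𝔸(n; Spec (CommRingCat.of k)) := inferInstance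
  haveI : Nonempty (V : Scheme.{u}) := ‹Nonempty ↥(affOpen V).left›
  haveI : IsIntegral (affOpen V).left := isIntegral_of_isOpenImmersion V.ι
  obtain ⟨ι, U, hU, hc⟩ := hP.locallySurjective (affOpen V) ψ
  obtain ⟨i, y, -⟩ := hU (Classical.arbitrary _)
  obtain ⟨c, hcI, hcψ⟩ := hc i
  let u : (U i).left ⟶ (affOpen V).left := (U i).hom
  haveI : Etale u := (U i).prop
  let V' : (𝔸(n; Spec (CommRingCat.of k))).Opens := V.ι ''ᵁ ⟨Set.range u, u.isOpenMap.isOpen_range⟩
  have hV' : V' ≤ V := V.ι.image_le_opensRange _ |>.trans (Scheme.Opens.opensRange_ι V).le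
  have hrange : Set.range (u ≫ V.ι) ⊆ Set.range V'.ι := by
    rw [Scheme.Opens.range_ι]
    rintro _ ⟨z, rfl⟩
    exact ⟨u z, ⟨z, rfl⟩, (Scheme.Hom.comp_apply _ _ _).symm⟩
  let u' : (U i).left ⟶ (affOpen V').left := IsOpenImmersion.lift V'.ι (u ≫ V.ι) hrange
  have hu' : u' ≫ V'.ι = u ≫ V.ι := IsOpenImmersion.lift_fac _ _ _
  haveI : Etale u' := by
    haveI : Etale (u' ≫ V'.ι) := by rw [hu']; infer_instance
    exact MorphismProperty.of_postcomp (W := @Etale) (W' := @Etale) u' V'.ι inferInstance ‹_›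
  haveI : Surjective u' := ⟨fun w => by
    obtain ⟨_, ⟨z, rfl⟩, hz⟩ := w.2
    exact ⟨z, Subtype.ext (((congrArg (fun q : (U i).left ⟶ _ => q z) hu').trans (Scheme.Hom.comp_apply _ _ _)).trans hz)⟩⟩
  let A := AbDual.ovr (affOpen V') u'
  have hA : A.hom = (PicRel.ovr (affOpen V) (U i)).hom := by
    show u' ≫ V'.ι ≫ _ = u ≫ V.ι ≫ _
    rw [reassoc_of% hu']
  let g : A ⟶ PicRel.ovr (affOpen V) (U i) := Over.homMk (𝟙 _) ((Category.id_comp _).trans hA.symm)
  obtain ⟨c', hc'⟩ : ∃ c' : PicLoc.PicSet (XT f A), c' = pull (XTmap f g) ⟨c, hcI⟩ := ⟨_, rfl⟩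
  let r : affOpen V' ⟶ affOpen V := Over.homMk (Scheme.homOfLE _ hV') (by simp [← Category.assoc])
  have hr : AbDual.ovrHom (affOpen V') u' ≫ r = g ≫ PicRel.ovrHom (affOpen V) (U i) := by
    refine Over.OverMorphism.ext ((cancel_mono V.ι).1 ?_)
    show (u' ≫ Scheme.homOfLE _ hV') ≫ V.ι = (𝟙 _ ≫ u) ≫ V.ι
    rw [Category.assoc, Scheme.homOfLE_ι, hu', Category.id_comp]
  have hψ' : φ A c'.1 = AbDual.ovrHom (affOpen V') u' ≫ r ≫ ψ := by
    rw [hc', nat_pull hP g ⟨c, hcI⟩, hcψ, ← Category.assoc, ← hr, Category.assoc]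
  haveI : IsLocallyNoetherian X := LocallyOfFiniteType.isLocallyNoetherian f
  haveI : CompactSpace X := QuasiCompact.compactSpace_of_compactSpace f
  haveI : IsNoetherian X := {}
  obtain ⟨κ, hκ, O, hOc, hOi, hdisj, hcov, hOn⟩ := exists_components X hX
  haveI := hκ
  haveI : Nonempty (affOpen V').left := ⟨u' y⟩
  haveI : LocallyOfFiniteType (affOpen V').hom :=
    inferInstanceAs (LocallyOfFiniteType (V'.ι ≫ (𝔸(n; Spec (CommRingCat.of k)) ↘ _)))
  obtain ⟨v₀, hv₀⟩ := exists_section (affOpen V').hom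
  obtain ⟨M, hMa⟩ := exists_near_const f O hdisj hcov A c' (fun j => by
    haveI := hOi j
    haveI : IsClosedImmersion (O j).ι := IsClosedImmersion.of_isPreimmersion _ (by rw [Scheme.Opens.range_ι]; exact hOc j)
    haveI : IsProper ((O j).ι ≫ f) := inferInstance
    refine exists_eq_prod V' u' ((O j).ι ≫ f) (hOn j) v₀ hv₀ _ fun w => ?_
    let U' := AbDual.ovr (affOpen V') u'
    let p₁ := AbDual.ovrHom U' (pullback.fst u' u')
    let p₂ := pr₂ V' u'
    have he : φ _ (pull (XTmap f p₁) c').1 = φ _ (pull (XTmap f p₂) c').1 := by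
      rw [nat_pull hP p₁ c', nat_pull hP p₂ c', hψ', ← Category.assoc, ← Category.assoc p₂]
      congr 1
      exact Over.OverMorphism.ext pullback.condition
    obtain ⟨ι', E, hE, hE'⟩ := hP.locallyInjective _ _ _ (pull (XTmap f p₁) c').2 (pull (XTmap f p₂) c').2 he
    obtain ⟨l, z, hz⟩ := hE w
    haveI : Etale (E l).hom := (E l).prop
    refine ⟨(E l).left, (E l).hom, inferInstance, inferInstance, z, hz, ?_⟩
    let J := fun T : Over (Spec (CommRingCat.of k)) =>
      pullback.map ((O j).ι ≫ f) T.hom f T.hom (O j).ι (𝟙 _) (𝟙 _) (by simp) (by simp)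
    have hJ : ∀ {T T' : Over (Spec (CommRingCat.of k))} (h : T' ⟶ T) (x : PicLoc.PicSet (XT f T)),
        pull (XTmap ((O j).ι ≫ f) h) (pull (J T) x) = pull (J T') (pull (XTmap f h) x) := fun h x => by
      rw [pull_pull, pull_pull]
      refine congrArg (fun m => pull m x) ?_
      apply pullback.hom_ext <;> simp [J, XTmap]
    have h0 : pull (XTmap f (AbDual.ovrHom _ (E l).hom)) (pull (XTmap f p₁) c') =
        pull (XTmap f (AbDual.ovrHom _ (E l).hom)) (pull (XTmap f p₂) c') := Subtype.ext (hE' l)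
    rw [hJ, hJ, hJ, hJ]
    exact congrArg (pull _) h0)
  let T0 : Over (Spec (CommRingCat.of k)) := Over.mk (𝟙 _)
  let M0 := pull (pullback.fst f T0.hom) M
  let toT0 : ∀ B : Over (Spec (CommRingCat.of k)), B ⟶ T0 := fun B => Over.homMk B.hom (Category.comp_id _)
  have hM0 : ∀ B : Over (Spec (CommRingCat.of k)), φ B (pull (pullback.fst f B.hom) M).1 = toT0 B ≫ φ T0 M0.1 := fun B => by
    rw [← nat_pull hP, pull_pull]
    exact congrArg (fun m => φ B (pull m M).1) ((pullback.lift_fst _ _ _).trans (Category.comp_id _)).symm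
  have hloc : φ A c'.1 = toT0 A ≫ φ T0 M0.1 := by
    choose W haW hW using hMa
    refine Over.OverMorphism.ext ((A.left.openCoverOfIsOpenCover W (top_le_iff.1 fun a _ =>
      Opens.mem_iSup.2 ⟨a, haW a⟩)).hom_ext _ _ fun a => ?_)
    have h := congrArg CommaMorphism.left ((nat_pull hP (AbDual.ovrHom A (W a).ι) c').symm.trans
      ((congrArg (fun x => φ _ x.1) (hW a)).trans (nat_pull hP (AbDual.ovrHom A (W a).ι) _)))
    rw [hM0] at h
    exact h
  let q : Spec (CommRingCat.of k) ⟶ P.left := (φ T0 M0.1).left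
  refine ⟨q, Over.w (φ T0 M0.1), ?_⟩
  have hd : IsDominant u := ⟨u.isOpenMap.isOpen_range.dense ⟨u y, y, rfl⟩⟩
  have hS : P.left.IsSeparated := by
    constructor
    rw [← terminal.comp_from P.hom]
    infer_instance
  haveI := hd; haveI := hS
  refine ext_of_isDominant u ?_
  have h1 := congrArg CommaMorphism.left (hψ'.symm.trans hloc)
  rw [← Category.assoc, hr] at h1
  simp only [Over.comp_left] at h1
  change ((𝟙 _ ≫ u) ≫ ψ.left) = A.hom ≫ q at h1
  rw [Category.id_comp, hA] at h1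
  rw [h1]
  rfl

end Groth.Agent.PicProper
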