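import Groth.Agent.S12403
import Groth.Agent.DivDescMod.AffineOpen
import Groth.Agent.LBDescEt.Local
import Groth.Agent.Rosenlicht.Product
import Groth.Agent.Assoc.Reduced
import Groth.Agent.PicFam.Separated

/-!
Invertible modules on the product of a proper normal variety and an étale scheme over an open of affine space:
a class which agrees, étale locally, with itself on the double product is a product class.
-/

set_option autoImplicit false
set_option backward.isDefEq.respectTransparency false
set_option backward.isDefEq.respectTransparency.types false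
set_option linter.style.haveILetI false

universe u

open CategoryTheory CategoryTheory.Limits AlgebraicGeometry
open Groth.Agent.W7Cube (pull pull_pull)
open PicF (XT XTmap secT)

noncomputable section

namespace Groth.Agent.PicProper

open Groth.Agent.W7Cube in
attribute [local instance] law

variable {k : Type u} [Field k]

lemma shuffle {G : Type*} [CommGroup G] (a b x y : G) : a * x⁻¹ * (y * b⁻¹) = a * b⁻¹ * x⁻¹ * y := by
  simp only [mul_assoc, mul_comm, mul_left_comm]

lemma pull_id {Q : Scheme.{u}} (x : PicLoc.PicSet Q) : pull (𝟙 Q) x = x := by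
  obtain ⟨N, hN, rfl⟩ := PicGrp.exists_eq_cls x
  exact Subtype.ext (Quot.sound ⟨(Scheme.Modules.pullbackId _).app N⟩)

theorem geometricallyIntegral [IsAlgClosed k] {Z : Scheme.{u}} (f : Z ⟶ Spec (CommRingCat.of k)) [IsIntegral Z]
    [LocallyOfFiniteType f] : GeometricallyIntegral f := by
  haveI : IsIntegral (Over.mk f).left := ‹IsIntegral Z›
  haveI : LocallyOfFiniteType (Over.mk f).hom := (inferInstance : LocallyOfFiniteType f)
  haveI : GeometricallyIrreducible f := Rosenlicht.geometricallyIrreducible (Over.mk f)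
  haveI : GeometricallyReduced f := ⟨fun L _ y Z' a b h => by
    haveI : IsReduced (pullback f y) := Assoc.isReduced_pullback k f y
    exact isReduced_of_isOpenImmersion h.isoPullback.hom⟩
  exact GeometricallyIntegral.of_geometricallyReduced_of_geometricallyIrreducible f

/-- `O_T = (f_T)_* O` for a proper geometrically integral scheme over a field. -/
theorem isIso_app_proj {Z : Scheme.{u}} (f : Z ⟶ Spec (CommRingCat.of k)) [IsProper f] [GeometricallyIntegral f]
    (T : Over (Spec (CommRingCat.of k))) (U : T.left.Opens) : IsIso ((PicF.XTproj f T).app U) := by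
  haveI : LocallyOfFinitePresentation f := inferInstance
  let p := pullback.snd f T.hom
  haveI : IsProper p := inferInstance
  haveI : Flat p := inferInstance
  haveI : LocallyOfFinitePresentation p := inferInstance
  haveI : GeometricallyIntegral p := inferInstance
  exact (ConcreteCategory.isIso_iff_bijective _).2 (W7See.app_bijective_of_local p (fun y =>
    W7Hull.exists_nhd_app_bijective_of_lfp p y (PicFam.bijective_fiber_of_geomIntegral p y)) U)

theorem exists_section [IsAlgClosed k] {Z : Scheme.{u}} (f : Z ⟶ Spec (CommRingCat.of k)) [LocallyOfFiniteType f] [Nonempty Z] :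
    ∃ σ, σ ≫ f = 𝟙 (Spec (CommRingCat.of k)) := by
  haveI : Nonempty (Over.mk f).left := ‹Nonempty Z›
  haveI : LocallyOfFiniteType (Over.mk f).hom := ‹LocallyOfFiniteType f›
  obtain ⟨p⟩ := Rosenlicht.exists_point (Over.mk f)
  exact ⟨p.left, Over.w p⟩

variable {n : Type u} [Finite n]

/-- An open of affine space over `k`. -/
abbrev affOpen (V : (𝔸(n; Spec (CommRingCat.of k))).Opens) : Over (Spec (CommRingCat.of k)) :=
  Over.mk (V.ι ≫ (𝔸(n; Spec (CommRingCat.of k)) ↘ Spec (CommRingCat.of k)))

variable (V : (𝔸(n; Spec (CommRingCat.of k))).Opens) {U : Scheme.{u}} (u : U ⟶ (affOpen V).left)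

/-- The second projection of the double product, over `k`. -/
def pr₂ : AbDual.ovr (AbDual.ovr (affOpen V) u) (pullback.fst u u) ⟶ AbDual.ovr (affOpen V) u :=
  Over.homMk (pullback.snd u u) (pullback.condition_assoc (affOpen V).hom).symm

theorem exists_eq_prod_of_section {Z : Scheme.{u}} (f : Z ⟶ Spec (CommRingCat.of k)) [IsProper f] [GeometricallyIntegral f]
    (σ : Spec (CommRingCat.of k) ⟶ Z) (hσ : σ ≫ f = 𝟙 _)
    (hZ : Pi1.IsNormalScheme Z) (v₀ : Spec (CommRingCat.of k) ⟶ (V : Scheme.{u})) (hv : v₀ ≫ (affOpen V).hom = 𝟙 _)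
    [Flat u] [LocallyOfFinitePresentation u] [Surjective u]
    (c : PicLoc.PicSet (XT f (AbDual.ovr (affOpen V) u)))
    (hloc : ∀ w : ↥(pullback u u), ∃ (E : Scheme.{u}) (e : E ⟶ pullback u u) (_ : Flat e)
      (_ : LocallyOfFinitePresentation e) (z : E), e z = w ∧
      pull (XTmap f (AbDual.ovrHom (AbDual.ovr (AbDual.ovr (affOpen V) u) (pullback.fst u u)) e))
          (pull (XTmap f (AbDual.ovrHom (AbDual.ovr (affOpen V) u) (pullback.fst u u))) c) =
        pull (XTmap f (AbDual.ovrHom (AbDual.ovr (AbDual.ovr (affOpen V) u) (pullback.fst u u)) e))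
          (pull (XTmap f (pr₂ V u)) c)) :
    ∃ (m : PicLoc.PicSet Z) (N : PicLoc.PicSet U),
      c = pull (pullback.fst f (AbDual.ovr (affOpen V) u).hom) m *
        pull (pullback.snd f (AbDual.ovr (affOpen V) u).hom) N := by
  have ha : ∀ (T : Over (Spec (CommRingCat.of k))) (W : T.left.Opens), IsIso ((PicF.XTproj f T).app W) :=
    fun T W => isIso_app_proj f T W
  let T := affOpen V
  let U' := AbDual.ovr T u
  let W' := AbDual.ovr U' (pullback.fst u u)
  let p₁ : W' ⟶ U' := AbDual.ovrHom U' (pullback.fst u u)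
  let p₂ : W' ⟶ U' := pr₂ V u
  have hsnd : ∀ {A B : Over (Spec (CommRingCat.of k))} (g : B ⟶ A) (x : PicLoc.PicSet A.left),
      pull (XTmap f g) (pull (pullback.snd f A.hom) x) = pull (pullback.snd f B.hom) (pull g.left x) :=
    fun g x => by rw [pull_pull, pull_pull, (PicFam.isPullback_XTmap f g).w]
  have hsec : ∀ {A B : Over (Spec (CommRingCat.of k))} (g : B ⟶ A) (x : PicLoc.PicSet (XT f A)),
      pull (secT f σ hσ B) (pull (XTmap f g) x) = pull g.left (pull (secT f σ hσ A) x) :=
    fun g x => by rw [pull_pull, pull_pull, S12403.secT_nat]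
  have hss : ∀ (A : Over (Spec (CommRingCat.of k))) (x : PicLoc.PicSet A.left),
      pull (secT f σ hσ A) (pull (pullback.snd f A.hom) x) = x := fun A x => by
    rw [pull_pull, S12403.secT_proj, pull_id]
  let N : PicLoc.PicSet U := pull (secT f σ hσ U') c
  let d := c * (pull (pullback.snd f U'.hom) N)⁻¹
  have hd : pull (secT f σ hσ U') d = 1 := by
    rw [map_mul, map_inv, hss]; exact mul_inv_cancel _
  have hap : ∀ (R : Scheme.{u}) (t : R ⟶ W'.left), Function.Bijective (pullback.snd (pullback.snd f W'.hom) t).appTop := by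
    intro R t
    haveI : IsIso ((pullback.snd f (t ≫ W'.hom)).app ⊤) := ha (Over.mk (t ≫ W'.hom)) ⊤
    rw [← pullbackLeftPullbackSndIso_hom_snd f W'.hom t, Scheme.Hom.comp_appTop]
    exact (ConcreteCategory.bijective_of_isIso (pullbackLeftPullbackSndIso f W'.hom t).hom.appTop).comp
      (ConcreteCategory.bijective_of_isIso ((pullback.snd f (t ≫ W'.hom)).app ⊤))
  obtain ⟨N₀, hN₀⟩ : ∃ N₀ : PicLoc.PicSet W'.left,
      pull (XTmap f p₁) c * (pull (XTmap f p₂) c)⁻¹ = pull (pullback.snd f W'.hom) N₀ := by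
    obtain ⟨L, hL, hLe⟩ := PicGrp.exists_eq_cls (pull (XTmap f p₁) c * (pull (XTmap f p₂) c)⁻¹)
    obtain ⟨M, hM, ⟨j⟩⟩ := LBDescEt.exists_eq_pullback_of_local (p := pullback.snd f W'.hom) hap
      (fun W => by haveI := ha W' W; exact ConcreteCategory.bijective_of_isIso ((pullback.snd f W'.hom).app W)) hL
      (fun w => by
        obtain ⟨E, e, he₁, he₂, z, hz, he⟩ := hloc w
        refine ⟨E, e, he₁, he₂, z, hz, ?_⟩
        have hg := PicFam.isPullback_XTmap f (AbDual.ovrHom W' e)
        have h1 : pull (XTmap f (AbDual.ovrHom W' e)) (PicGrp.cls L hL) = 1 := by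
          rw [← hLe, map_mul, map_inv]
          exact mul_inv_eq_one.2 he
        obtain ⟨i⟩ := PicFam.nonempty_iso_of_cl_eq (congrArg Subtype.val h1)
        exact ⟨(Scheme.Modules.pullbackCongr (show hg.isoPullback.inv ≫ XTmap f (AbDual.ovrHom W' e) =
            pullback.fst (pullback.snd f W'.hom) e from hg.isoPullback_inv_fst)).symm.app L ≪≫
          ((Scheme.Modules.pullbackComp hg.isoPullback.inv _).app L).symm ≪≫
          (Scheme.Modules.pullback hg.isoPullback.inv).mapIso i ≪≫ PicLoc.pullbackStructureIso _⟩)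
    exact ⟨PicGrp.cls M hM, hLe.trans (Subtype.ext (Quot.sound ⟨j⟩))⟩
  have hglue : pull (XTmap f p₁) d = pull (XTmap f p₂) d := by
    rw [← mul_inv_eq_one]
    obtain ⟨N₁, hN₁⟩ : ∃ N₁ : PicLoc.PicSet W'.left,
        pull (XTmap f p₁) d * (pull (XTmap f p₂) d)⁻¹ = pull (pullback.snd f W'.hom) N₁ := by
      refine ⟨N₀ * (pull p₁.left N)⁻¹ * pull p₂.left N, ?_⟩
      simp only [d, map_mul, map_inv, mul_inv_rev, inv_inv]
      erw [hsnd p₁ N, hsnd p₂ N, ← hN₀]
      exact shuffle _ _ _ _
    have h0 := congrArg (pull (secT f σ hσ W')) hN₁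
    rw [map_mul, map_inv, hsec, hsec, hd, map_one, map_one, hss, inv_one, mul_one] at h0
    rw [hN₁, ← h0, map_one]
  obtain ⟨⟨L, hL, -⟩, hLd : PicF.pullCl _ L = d.1, -⟩ :=
    S12403.result f σ hσ ha T u ⟨d.1, d.2, congrArg Subtype.val hd⟩ (congrArg Subtype.val hglue :)
  haveI : IsLocallyNoetherian Z := LocallyOfFiniteType.isLocallyNoetherian f
  haveI : CompactSpace Z := QuasiCompact.compactSpace_of_compactSpace f
  haveI : IsNoetherian Z := {}
  obtain ⟨m, ⟨hm, hmL⟩, -⟩ := DivDescMod.pullCl_bijective v₀ hv f hZ L hL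
  have hfst : XTmap f (AbDual.ovrHom T u) ≫ pullback.fst f T.hom = pullback.fst f U'.hom :=
    (pullback.lift_fst _ _ _).trans (Category.comp_id _)
  have hdm : d = pull (pullback.fst f U'.hom) ⟨m, hm⟩ := by
    have hmL' : pull (pullback.fst f T.hom) ⟨m, hm⟩ = ⟨L, hL⟩ := Subtype.ext hmL
    rw [← hfst, ← pull_pull, hmL']
    exact Subtype.ext hLd.symm
  refine ⟨⟨m, hm⟩, N, ?_⟩
  rw [← hdm]
  exact (inv_mul_cancel_right c _).symm

theorem exists_eq_prod [IsAlgClosed k] {Z : Scheme.{u}} (f : Z ⟶ Spec (CommRingCat.of k)) [IsProper f] [IsIntegral Z]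
    (hZ : Pi1.IsNormalScheme Z) (v₀ : Spec (CommRingCat.of k) ⟶ (V : Scheme.{u})) (hv : v₀ ≫ (affOpen V).hom = 𝟙 _)
    [Flat u] [LocallyOfFinitePresentation u] [Surjective u]
    (c : PicLoc.PicSet (XT f (AbDual.ovr (affOpen V) u)))
    (hloc : ∀ w : ↥(pullback u u), ∃ (E : Scheme.{u}) (e : E ⟶ pullback u u) (_ : Flat e)
      (_ : LocallyOfFinitePresentation e) (z : E), e z = w ∧
      pull (XTmap f (AbDual.ovrHom (AbDual.ovr (AbDual.ovr (affOpen V) u) (pullback.fst u u)) e))
          (pull (XTmap f (AbDual.ovrHom (AbDual.ovr (affOpen V) u) (pullback.fst u u))) c) =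
        pull (XTmap f (AbDual.ovrHom (AbDual.ovr (AbDual.ovr (affOpen V) u) (pullback.fst u u)) e))
          (pull (XTmap f (pr₂ V u)) c)) :
    ∃ (m : PicLoc.PicSet Z) (N : PicLoc.PicSet U),
      c = pull (pullback.fst f (AbDual.ovr (affOpen V) u).hom) m *
        pull (pullback.snd f (AbDual.ovr (affOpen V) u).hom) N := by
  obtain ⟨σ, hσ⟩ := exists_section f
  haveI : GeometricallyIntegral f := geometricallyIntegral f
  exact exists_eq_prod_of_section V u f σ hσ hZ v₀ hv c hloc

end Groth.Agent.PicProper
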