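import Groth.Agent.PicProper.Const
import Groth.Agent.NormVar
import Groth.Agent.TameAbh.Steps
import Groth.Agent.GeomProp.BaseChange
import Groth.Agent.Chev.PtsDenseRed
import Groth.Agent.SepBC.Closed
import Groth.Agent.LBDesc.DualRigid
import Groth.Agent.PicRelBC.Basic
import Groth.Agent.ClosedRep.Over

/-!
Morphisms from opens of affine space to `Pic⁰` of a proper geometrically reduced normal scheme over any field.
-/

set_option autoImplicit false
set_option backward.isDefEq.respectTransparency false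
set_option backward.isDefEq.respectTransparency.types false
set_option linter.style.haveILetI false
set_option maxHeartbeats 2000000

universe u

open CategoryTheory CategoryTheory.Limits AlgebraicGeometry TopologicalSpace
open Groth.Agent.W7Cube (pull pull_pull)
open PicF (XT XTmap secT)
open scoped TensorProduct

noncomputable section

namespace Groth.Agent.PicProper

open Groth.Agent.W7Cube in
attribute [local instance] law

/-- Normality survives separable algebraic extensions of the base field. -/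
theorem isNormalScheme_bc_sep {k : Type u} [Field k] {X : Scheme.{u}} (f : X ⟶ Spec (CommRingCat.of k))
    [LocallyOfFiniteType f] (hX : Pi1.IsNormalScheme X) (K : Type u) [Field K] [Algebra k K]
    [Algebra.IsSeparable k K] :
    Pi1.IsNormalScheme (pullback f (Spec.map (CommRingCat.ofHom (algebraMap k K)))) := by
  intro z
  let w := Spec.map (CommRingCat.ofHom (algebraMap k K))
  obtain ⟨W, hW, hzW, -⟩ := exists_isAffineOpen_mem_and_subset (show pullback.fst f w z ∈ (⊤ : X.Opens) from trivial)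
  haveI : IsAffine W := hW
  let A := Γ((W : Scheme.{u}), ⊤)
  let χ : CommRingCat.of k ⟶ A := (Scheme.ΓSpecIso _).inv ≫ (W.ι ≫ f).appTop
  have hχ : (W : Scheme.{u}).isoSpec.hom ≫ Spec.map χ = W.ι ≫ f := by
    rw [Spec.map_comp, ← Category.assoc, Scheme.isoSpec_hom_naturality, Category.assoc]
    simp [Scheme.isoSpec_Spec_hom]
  letI : Algebra k A := χ.hom.toAlgebra
  haveI : Algebra.FiniteType k A := by
    have h : LocallyOfFiniteType (Spec.map χ) := by
      rw [← MorphismProperty.cancel_left_of_respectsIso (P := @LocallyOfFiniteType) (W : Scheme.{u}).isoSpec.hom, hχ]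
      infer_instance
    exact (HasRingHomProperty.Spec_iff (P := @LocallyOfFiniteType)).1 h
  haveI : IsNoetherianRing A := Algebra.FiniteType.isNoetherianRing k A
  haveI : IsNoetherianRing ((A : Type u) ⊗[k] K) := by
    haveI : Algebra.FiniteType K (K ⊗[k] (A : Type u)) := inferInstance
    haveI := Algebra.FiniteType.isNoetherianRing K (K ⊗[k] (A : Type u))
    exact isNoetherianRing_of_ringEquiv (K ⊗[k] (A : Type u)) (Algebra.TensorProduct.comm k K A).toRingEquiv
  let u₀ : Spec A ⟶ X := (W : Scheme.{u}).isoSpec.inv ≫ W.ι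
  haveI : IsOpenImmersion u₀ := inferInstanceAs (IsOpenImmersion ((W : Scheme.{u}).isoSpec.inv ≫ W.ι))
  have hu₀ : u₀ ≫ f = Spec.map (CommRingCat.ofHom (algebraMap k A)) := by
    show _ = Spec.map χ
    rw [Category.assoc, ← hχ, Iso.inv_hom_id_assoc]
  let j : Spec (CommRingCat.of ((A : Type u) ⊗[k] K)) ⟶ pullback f w :=
    (pullbackSpecIso k A K).inv ≫ pullback.map _ _ f w u₀ (𝟙 _) (𝟙 _) (by rw [Category.comp_id, hu₀])
      (by rw [Category.comp_id, Category.id_comp])
  haveI : IsOpenImmersion j := inferInstance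
  obtain ⟨Q, rfl⟩ : z ∈ Set.range j := by
    obtain ⟨m, hm⟩ : z ∈ Set.range (pullback.map (Spec.map (CommRingCat.ofHom (algebraMap k A))) w f w u₀ (𝟙 _) (𝟙 _)
        (by rw [Category.comp_id, hu₀]) (by rw [Category.comp_id, Category.id_comp])) := by
      rw [Scheme.Pullback.range_map]
      refine ⟨⟨(W : Scheme.{u}).isoSpec.hom ⟨_, hzW⟩, ?_⟩, ⟨_, rfl⟩⟩
      refine (Scheme.Hom.comp_apply _ _ _).symm.trans ?_
      rw [show (W : Scheme.{u}).isoSpec.hom ≫ u₀ = W.ι from Iso.hom_inv_id_assoc _ _]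
      rfl
    exact ⟨(pullbackSpecIso k A K).hom m, by rw [← Scheme.Hom.comp_apply, Iso.hom_inv_id_assoc, hm]⟩
  haveI : Algebra.IsGeometricallyReduced k K := TameAbh.isGeometricallyReduced_of_isSeparable k K
  obtain ⟨e⟩ := NormVar.stalk_facts _ j inferInstance Q
  have hq : IsDomain (Localization.AtPrime (Q.asIdeal.comap (algebraMap A ((A : Type u) ⊗[k] K)))) ∧
      IsIntegrallyClosed (Localization.AtPrime (Q.asIdeal.comap (algebraMap A ((A : Type u) ⊗[k] K)))) := by
    let q : Spec A := ⟨Q.asIdeal.comap (algebraMap A ((A : Type u) ⊗[k] K)), inferInstance⟩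
    obtain ⟨e'⟩ := NormVar.stalk_facts _ u₀ inferInstance q
    obtain ⟨_, _⟩ := hX (u₀ q)
    exact ⟨e'.symm.toMulEquiv.isDomain (X.presheaf.stalk (u₀ q)),
      IsIntegrallyClosed.of_equiv (R := X.presheaf.stalk (u₀ q)) e'⟩
  obtain ⟨_, _⟩ := (GeomProp.normal_field_iff k A K Q.asIdeal).2 ‹_› hq
  exact ⟨e.toMulEquiv.isDomain (Localization.AtPrime Q.asIdeal),
    IsIntegrallyClosed.of_equiv (R := Localization.AtPrime Q.asIdeal) e.symm⟩

theorem geometricallyReduced_opens {Y S : Scheme.{u}} (g : Y ⟶ S) [GeometricallyReduced g] (U : Y.Opens) :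
    GeometricallyReduced (U.ι ≫ g) := by
  refine ⟨fun K _ y Z fst snd H => ?_⟩
  haveI : IsReduced (pullback g y) := GeometricallyReduced.geometrically_isReduced _ _ _ (.of_hasPullback g y)
  let u : Z ⟶ pullback g y := pullback.lift (fst ≫ U.ι) snd (by rw [Category.assoc]; exact H.w)
  have hu : IsPullback fst u U.ι (pullback.fst g y) :=
    IsPullback.of_bot (by rw [pullback.lift_snd]; exact H) (pullback.lift_fst _ _ _).symm (IsPullback.of_hasPullback g y)
  haveI : IsOpenImmersion u := MorphismProperty.of_isPullback (P := @IsOpenImmersion) hu inferInstance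
  exact isReduced_of_isOpenImmersion u

theorem kStr_surjective {K : Type u} [Field K] {Z : Scheme.{u}} (f : Z ⟶ Spec (CommRingCat.of K))
    (s : Spec (CommRingCat.of K) ⟶ Z) (hs : s ≫ f = 𝟙 _) :
    Function.Surjective (WeilLib.kStr f (s (IsLocalRing.closedPoint K))) := by
  let x := s (IsLocalRing.closedPoint K)
  let r : Z.residueField x ⟶ CommRingCat.of K := Scheme.descResidueField (Scheme.stalkClosedPointTo s)
  have hr : Spec.map r ≫ Z.fromSpecResidueField x = s := by
    rw [Scheme.descResidueField_fromSpecResidueField]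
    exact Scheme.Spec_stalkClosedPointTo_fromSpecStalk s
  have h : CommRingCat.ofHom (WeilLib.kStr f x) ≫ r = 𝟙 _ := by
    apply Spec.map_injective
    rw [Spec.map_comp, ← WeilLib.fromSpecResidueField_comp, ← Category.assoc, hr, hs, Spec.map_id]
  intro y
  refine ⟨r.hom y, r.hom.injective ?_⟩
  exact congr($h (r.hom y))

/-- Over a separably closed field: rational points and geometric integrality. -/
theorem exists_section_sep {K : Type u} [Field K] [IsSepClosed K] {Z : Scheme.{u}} (f : Z ⟶ Spec (CommRingCat.of K))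
    [LocallyOfFiniteType f] [GeometricallyReduced f] [IsIntegral Z] :
    GeometricallyIntegral f ∧ ∃ σ, σ ≫ f = 𝟙 (Spec (CommRingCat.of K)) := by
  have hd := Chev.dense_rational_of_geometricallyReduced K f
  obtain ⟨x, s, hs, -⟩ := hd.nonempty
  haveI : GeometricallyIrreducible f := SepBC.geometricallyIrreducible_of_dense_rational f (hd.mono (by
    rintro _ ⟨t, ht, rfl⟩
    exact kStr_surjective f t ht))
  exact ⟨GeometricallyIntegral.of_geometricallyReduced_of_geometricallyIrreducible f, s, hs⟩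

variable {κ K : Type u} [Field κ] [Field K] [Algebra κ K] [IsSepClosed K] [Algebra.IsSeparable κ K]
  {C : Scheme.{u}} (g : C ⟶ Spec (CommRingCat.of κ)) [IsProper g] [GeometricallyReduced g]

/-- The base change morphism. -/
abbrev sw : Spec (CommRingCat.of K) ⟶ Spec (CommRingCat.of κ) := Spec.map (CommRingCat.ofHom (algebraMap κ K))

variable (hC : Pi1.IsNormalScheme C) (J : Over (Spec (CommRingCat.of κ))) [IsSeparated J.hom]
  (φ : ∀ T : Over (Spec (CommRingCat.of κ)), PicF.Cl (PicF.XT g T) → (T ⟶ J))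
  (hJ : AbDual.IsRelPicZeroK Scheme.fppfPrecoverage g J φ)

include hC hJ in
/-- **No rational curves on `Pic⁰` of a proper geometrically reduced normal scheme.** -/
theorem exists_eq_const_picZero {n : Type u} [Finite n] (V : (𝔸(n; Spec (CommRingCat.of K))).Opens)
    [Nonempty ↥(affOpen V).left] (ψ : PicRelBC.bar (sw (κ := κ) (K := K)) (affOpen V) ⟶ J) :
    ∃ a : Spec (CommRingCat.of K) ⟶ J.left, ψ.left = (affOpen V).hom ≫ a := by
  let w := sw (κ := κ) (K := K)
  let gK := pullback.snd g w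
  haveI : GeometricallyReduced gK := inferInstanceAs (GeometricallyReduced (pullback.snd g w))
  haveI : IsProper gK := inferInstanceAs (IsProper (pullback.snd g w))
  haveI : IsIntegral 𝔸(n; Spec (CommRingCat.of K)) := inferInstance
  haveI : Nonempty (V : Scheme.{u}) := ‹Nonempty ↥(affOpen V).left›
  haveI : IsIntegral (affOpen V).left := isIntegral_of_isOpenImmersion V.ι
  let T := PicRelBC.bar w (affOpen V)
  obtain ⟨R, hR, hsec⟩ := hJ.locallySurjective T ψ
  obtain ⟨ι, U, us, rfl⟩ := R.exists_eq_ofArrows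
  obtain ⟨⟨hcov, hprop⟩, -⟩ : (_ ∧ _) ∧ True := ⟨(Scheme.ofArrows_mem_precoverage_iff _).1 hR, trivial⟩
  obtain ⟨i, y, -⟩ := hcov (Classical.arbitrary (affOpen V).left)
  obtain ⟨c, ⟨L, hcL, hL, hLt⟩, hcψ⟩ := hsec (us i) (Presieve.ofArrows.mk i)
  have hc0 : AbDual.IsPicZeroCl g (AbDual.ovr T (us i)) c := ⟨L, hcL, hL, hLt⟩
  obtain ⟨hufl, hufp⟩ : Flat (us i) ∧ LocallyOfFinitePresentation (us i) := hprop i
  let u : U i ⟶ (affOpen V).left := us i
  haveI : Flat u := hufl
  haveI : LocallyOfFinitePresentation u := hufp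
  let V' : (𝔸(n; Spec (CommRingCat.of K))).Opens := V.ι ''ᵁ ⟨Set.range u, u.isOpenMap.isOpen_range⟩
  have hV' : V' ≤ V := V.ι.image_le_opensRange _ |>.trans (Scheme.Opens.opensRange_ι V).le
  have hrange : Set.range (u ≫ V.ι) ⊆ Set.range V'.ι := by
    rw [Scheme.Opens.range_ι]
    rintro _ ⟨z, rfl⟩
    exact ⟨u z, ⟨z, rfl⟩, (Scheme.Hom.comp_apply _ _ _).symm⟩
  let u' : U i ⟶ (affOpen V').left := IsOpenImmersion.lift V'.ι (u ≫ V.ι) hrange
  have hu' : u' ≫ V'.ι = u ≫ V.ι := IsOpenImmersion.lift_fac _ _ _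
  haveI : Flat u' := by
    haveI : Flat (u' ≫ V'.ι) := by rw [hu']; infer_instance
    exact MorphismProperty.of_postcomp (W := @Flat) (W' := @IsOpenImmersion) u' V'.ι inferInstance ‹_›
  haveI : LocallyOfFinitePresentation u' := by
    haveI : LocallyOfFinitePresentation (u' ≫ V'.ι) := by rw [hu']; infer_instance
    exact MorphismProperty.of_postcomp (W := @LocallyOfFinitePresentation) (W' := @IsOpenImmersion) u' V'.ι
      inferInstance ‹_›
  haveI : Surjective u' := ⟨fun w => by
    obtain ⟨_, ⟨z, rfl⟩, hz⟩ := w.2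
    exact ⟨z, Subtype.ext (((congrArg (fun q : U i ⟶ _ => q z) hu').trans (Scheme.Hom.comp_apply _ _ _)).trans hz)⟩⟩
  let A := AbDual.ovr (affOpen V') u'
  let ζ : PicRelBC.bar w A ⟶ AbDual.ovr T (us i) := Over.homMk (𝟙 _) (by
    show 𝟙 _ ≫ u ≫ (V.ι ≫ _) ≫ w = (u' ≫ V'.ι ≫ _) ≫ w
    rw [Category.id_comp, reassoc_of% hu']
    simp only [Category.assoc])
  obtain ⟨c0, hc0eq⟩ : ∃ c0 : PicLoc.PicSet (XT g (PicRelBC.bar w A)),
      c0 = pull (XTmap g ζ) ⟨c, ⟨L, hcL, hL⟩⟩ := ⟨_, rfl⟩
  have hc00 : AbDual.IsPicZeroCl g _ c0.1 := by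
    rw [hc0eq]; exact LBDesc.picZero_XTmap g ζ (c := ⟨c, ⟨L, hcL, hL⟩⟩) hc0
  let r : affOpen V' ⟶ affOpen V := Over.homMk (Scheme.homOfLE _ hV') (by simp [← Category.assoc])
  have hr : u' ≫ r.left = u := (cancel_mono V.ι).1 (by
    show (u' ≫ Scheme.homOfLE _ hV') ≫ V.ι = u ≫ V.ι
    rw [Category.assoc, Scheme.homOfLE_ι, hu'])
  have hφ0 : (φ _ c0.1).left = u' ≫ r.left ≫ ψ.left := by
    rw [hc0eq, show φ (PicRelBC.bar w A) (pull (XTmap g ζ) ⟨c, ⟨L, hcL, hL⟩⟩).1 = ζ ≫ φ _ c from
      hJ.natural _ _ ζ c hc0, hcψ, reassoc_of% hr]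
    exact Category.id_comp _
  let e := fun T : Over (Spec (CommRingCat.of K)) => PicRelBC.eT g w T
  have hpe : ∀ (B : Over (Spec (CommRingCat.of K))) (x : PicLoc.PicSet (XT gK B)),
      pull (e B).inv (pull (e B).hom x) = x := fun B x => by rw [pull_pull, Iso.inv_hom_id, pull_id]
  have hep : ∀ (B : Over (Spec (CommRingCat.of K))) (x : PicLoc.PicSet (XT g (PicRelBC.bar w B))),
      pull (e B).hom (pull (e B).inv x) = x := fun B x => by rw [pull_pull, Iso.hom_inv_id, pull_id]
  have hen : ∀ {B B' : Over (Spec (CommRingCat.of K))} (h : B' ⟶ B) (x : PicLoc.PicSet (XT g (PicRelBC.bar w B))),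
      pull (XTmap gK h) (pull (e B).inv x) = pull (e B').inv (pull (XTmap g (PicRelBC.barMap w h)) x) := fun h x => by
    rw [pull_pull, pull_pull]
    refine congrArg (fun m => pull m x) ?_
    rw [Iso.eq_inv_comp, ← Category.assoc, Iso.comp_inv_eq]
    exact (PicRelBC.eT_naturality g w h).symm
  obtain ⟨c', hc'⟩ : ∃ c' : PicLoc.PicSet (XT gK A), c' = pull (e A).inv c0 := ⟨_, rfl⟩
  haveI : IsLocallyNoetherian (pullback g w) := LocallyOfFiniteType.isLocallyNoetherian gK
  haveI : CompactSpace ↥(pullback g w) := QuasiCompact.compactSpace_of_compactSpace gK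
  haveI : IsNoetherian (pullback g w) := {}
  have hXK : Pi1.IsNormalScheme (pullback g w) := isNormalScheme_bc_sep g hC K
  obtain ⟨ι', hι', O, hOc, hOi, hdisj, hOcov, hOn⟩ := exists_components (pullback g w) hXK
  haveI := hι'
  haveI : Nonempty (affOpen V').left := ⟨u' y⟩
  haveI : Smooth (𝔸(n; Spec (CommRingCat.of K)) ↘ Spec (CommRingCat.of K)) := by
    haveI : Algebra.Smooth K (MvPolynomial n K) := ⟨inferInstance, inferInstance⟩
    rw [← MorphismProperty.cancel_left_of_respectsIso (P := @Smooth) (AffineSpace.SpecIso n (CommRingCat.of K)).inv,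
      AffineSpace.SpecIso_inv_over, HasRingHomProperty.Spec_iff (P := @Smooth)]
    exact RingHom.smooth_algebraMap.2 inferInstance
  haveI hsm : Smooth (affOpen V').hom := inferInstanceAs (Smooth (V'.ι ≫ (𝔸(n; Spec (CommRingCat.of K)) ↘ _)))
  obtain ⟨_, v₀, hv₀, -⟩ := (PtsDense.dense_rational K (affOpen V').hom).nonempty
  obtain ⟨M, hMa⟩ := exists_near_const gK O hdisj hOcov A c' (fun j => by
    haveI := hOi j
    haveI : IsClosedImmersion (O j).ι := IsClosedImmersion.of_isPreimmersion _ (by rw [Scheme.Opens.range_ι]; exact hOc j)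
    haveI : IsProper ((O j).ι ≫ gK) := inferInstance
    haveI : GeometricallyReduced ((O j).ι ≫ gK) := geometricallyReduced_opens gK (O j)
    obtain ⟨hgi, σ, hσ⟩ := exists_section_sep ((O j).ι ≫ gK)
    haveI := hgi
    refine exists_eq_prod_of_section V' u' ((O j).ι ≫ gK) σ hσ (hOn j) v₀ hv₀ _ fun z => ?_
    let W₂ := AbDual.ovr A (pullback.fst u' u')
    let p₁ : W₂ ⟶ A := AbDual.ovrHom A (pullback.fst u' u')
    let p₂ : W₂ ⟶ A := pr₂ V' u'
    have he : φ _ (pull (XTmap g (PicRelBC.barMap w p₁)) c0).1 = φ _ (pull (XTmap g (PicRelBC.barMap w p₂)) c0).1 := by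
      rw [show φ _ (pull (XTmap g (PicRelBC.barMap w p₁)) c0).1 = _ from hJ.natural _ _ _ _ hc00,
        show φ _ (pull (XTmap g (PicRelBC.barMap w p₂)) c0).1 = _ from hJ.natural _ _ _ _ hc00]
      refine Over.OverMorphism.ext ?_
      show pullback.fst u' u' ≫ (φ _ c0.1).left = pullback.snd u' u' ≫ (φ _ c0.1).left
      rw [hφ0, pullback.condition_assoc]
    obtain ⟨R', hR', hE⟩ := hJ.locallyInjective _ _ _ (LBDesc.picZero_XTmap g _ hc00)
      (LBDesc.picZero_XTmap g _ hc00) he
    obtain ⟨ι₂, E, es, rfl⟩ := R'.exists_eq_ofArrows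
    obtain ⟨hcov', hprop'⟩ := (Scheme.ofArrows_mem_precoverage_iff _).1 hR'
    obtain ⟨l, x, hx⟩ := hcov' z
    obtain ⟨hefl, hefp⟩ : Flat (es l) ∧ LocallyOfFinitePresentation (es l) := hprop' l
    refine ⟨E l, es l, hefl, hefp, x, hx, ?_⟩
    let B := AbDual.ovr W₂ (es l)
    let s : PicRelBC.bar w B ⟶ AbDual.ovr (PicRelBC.bar w W₂) (es l) :=
      Over.homMk (𝟙 _) ((Category.id_comp _).trans (Category.assoc _ _ _).symm)
    have hs : PicRelBC.barMap w (AbDual.ovrHom W₂ (es l)) = s ≫ AbDual.ovrHom (PicRelBC.bar w W₂) (es l) :=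
      Over.OverMorphism.ext (Category.id_comp _).symm
    let Jm := fun T : Over (Spec (CommRingCat.of K)) =>
      pullback.map ((O j).ι ≫ gK) T.hom gK T.hom (O j).ι (𝟙 _) (𝟙 _) (by simp) (by simp)
    have hJm : ∀ {T T' : Over (Spec (CommRingCat.of K))} (h : T' ⟶ T) (x : PicLoc.PicSet (XT gK T)),
        pull (XTmap ((O j).ι ≫ gK) h) (pull (Jm T) x) = pull (Jm T') (pull (XTmap gK h) x) := fun h x => by
      rw [pull_pull, pull_pull]
      refine congrArg (fun m => pull m x) ?_
      apply pullback.hom_ext <;> simp [Jm, XTmap]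
    have h0 : pull (XTmap g (AbDual.ovrHom (PicRelBC.bar w W₂) (es l))) (pull (XTmap g (PicRelBC.barMap w p₁)) c0) =
        pull (XTmap g (AbDual.ovrHom (PicRelBC.bar w W₂) (es l))) (pull (XTmap g (PicRelBC.barMap w p₂)) c0) :=
      Subtype.ext (hE (es l) (Presieve.ofArrows.mk l))
    rw [hJm, hJm, hJm, hJm, hc', hen, hen, hen, hen]
    refine congrArg (pull _) (congrArg (pull _) ?_)
    have h1 := congrArg (pull (XTmap g s)) h0
    rwa [pull_pull (XTmap g s), pull_pull (XTmap g s), ← PicRelBC.XTmap_comp, ← hs] at h1)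
  -- a rational point of `V'` and a point of `U` over it
  obtain ⟨z₀, hz₀⟩ := u'.surjective (v₀ (IsLocalRing.closedPoint K))
  obtain ⟨W, hzW, hW⟩ := hMa z₀
  let B := AbDual.ovr A W.ι
  let a : Spec (CommRingCat.of K) ⟶ J.left := v₀ ≫ r.left ≫ ψ.left
  refine ⟨a, ?_⟩
  let m : B.left ⟶ J.left := W.ι ≫ u' ≫ r.left ≫ ψ.left
  -- the two projections agree
  let B₂ : Over (Spec (CommRingCat.of K)) := Over.mk (pullback.fst B.hom B.hom ≫ B.hom)
  let q₁ : B₂ ⟶ B := Over.homMk (pullback.fst B.hom B.hom) rfl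
  let q₂ : B₂ ⟶ B := Over.homMk (pullback.snd B.hom B.hom) pullback.condition.symm
  let ι₀ : B ⟶ A := AbDual.ovrHom A W.ι
  have hcB : pull (XTmap gK ι₀) c' = pull (pullback.fst gK B.hom) M := by
    rw [hW, pull_pull]
    exact congrArg (fun m => pull m M) ((pullback.lift_fst _ _ _).trans (Category.comp_id _))
  have hqq : pull (XTmap gK (q₁ ≫ ι₀)) c' = pull (XTmap gK (q₂ ≫ ι₀)) c' := by
    rw [PicRelBC.XTmap_comp, PicRelBC.XTmap_comp, ← pull_pull, ← pull_pull, hcB, pull_pull, pull_pull]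
    refine congrArg (fun m => pull m M) ?_
    simp [XTmap]
  have hq0 : pull (XTmap g (PicRelBC.barMap w (q₁ ≫ ι₀))) c0 = pull (XTmap g (PicRelBC.barMap w (q₂ ≫ ι₀))) c0 := by
    rw [hc', hen, hen] at hqq
    have h := congrArg (pull (e B₂).hom) hqq
    rwa [hep, hep] at h
  have hmm : pullback.fst B.hom B.hom ≫ m = pullback.snd B.hom B.hom ≫ m := by
    have h := congrArg CommaMorphism.left ((hJ.natural _ _ (PicRelBC.barMap w (q₁ ≫ ι₀)) c0.1 hc00).symm.trans
      ((congrArg (fun x => φ _ x.1) hq0).trans (hJ.natural _ _ (PicRelBC.barMap w (q₂ ≫ ι₀)) c0.1 hc00)))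
    change (pullback.fst B.hom B.hom ≫ W.ι) ≫ (φ _ c0.1).left = (pullback.snd B.hom B.hom ≫ W.ι) ≫ (φ _ c0.1).left at h
    rwa [hφ0, Category.assoc, Category.assoc] at h
  let F := pullback (W.ι ≫ u') v₀
  have hF : Nonempty F := by
    obtain ⟨p, -⟩ : ∃ p : F, pullback.fst (W.ι ≫ u') v₀ p = ⟨z₀, hzW⟩ := by
      rw [← Set.mem_range, Scheme.Pullback.range_fst]
      exact ⟨IsLocalRing.closedPoint K, hz₀.symm.trans (Scheme.Hom.comp_apply W.ι u' ⟨z₀, hzW⟩).symm⟩
    exact ⟨p⟩
  have hm : m = B.hom ≫ a := by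
    let jF := pullback.fst (W.ι ≫ u') v₀
    have hjF : jF ≫ B.hom = pullback.snd (W.ι ≫ u') v₀ := by
      show jF ≫ W.ι ≫ u' ≫ (affOpen V').hom = _
      rw [← Category.assoc W.ι, ← Category.assoc jF, pullback.condition, Category.assoc, hv₀, Category.comp_id]
    let π := pullback.fst B.hom (jF ≫ B.hom)
    haveI : Surjective (jF ≫ B.hom) := ⟨fun _ => ⟨hF.some, Subsingleton.elim (α := PrimeSpectrum K) _ _⟩⟩
    haveI : Flat (jF ≫ B.hom) := inferInstance
    haveI : Flat π := inferInstance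
    haveI : Surjective π := inferInstance
    haveI := Flat.epi_of_flat_of_surjective π
    rw [← cancel_epi π]
    have h := congrArg (pullback.lift π (pullback.snd B.hom (jF ≫ B.hom) ≫ jF)
      (by rw [Category.assoc]; exact pullback.condition) ≫ ·) hmm
    simp only [pullback.lift_fst_assoc, pullback.lift_snd_assoc, Category.assoc] at h
    rw [h, show jF ≫ m = (jF ≫ B.hom) ≫ a by
      rw [hjF]
      show jF ≫ W.ι ≫ u' ≫ r.left ≫ ψ.left = _
      rw [← Category.assoc W.ι, ← Category.assoc jF, pullback.condition, Category.assoc]]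
    rw [← pullback.condition_assoc]
  have hd : IsDominant (W.ι ≫ u) := ⟨((W.ι ≫ u).isOpenMap.isOpen_range).dense ⟨_, ⟨z₀, hzW⟩, rfl⟩⟩
  haveI : Subsingleton ↥(Spec (CommRingCat.of κ)) := inferInstanceAs (Subsingleton (PrimeSpectrum κ))
  haveI : J.left.IsSeparated := by
    constructor
    rw [← terminal.comp_from J.hom]
    infer_instance
  haveI := hd
  haveI : IsReduced (affOpen V).left := inferInstance
  haveI : IsReduced (PicRelBC.bar (sw (κ := κ) (K := K)) (affOpen V)).left := ‹IsReduced (affOpen V).left›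
  refine ext_of_isDominant (W.ι ≫ u) ?_
  rw [Category.assoc, Category.assoc, ← hr, Category.assoc]
  refine (show _ = _ from hm).trans ?_
  show (W.ι ≫ u' ≫ (affOpen V').hom) ≫ a = W.ι ≫ u' ≫ r.left ≫ (affOpen V).hom ≫ a
  rw [← Over.w r]
  simp only [Category.assoc]

end Groth.Agent.PicProper
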