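import Groth.Agent.PicProper.Const
import Groth.Agent.Chev.Norm
import Groth.Agent.GrpComp.Identity
import Groth.Agent.ProperAt.FlatGeneric
import Groth.Agent.PicRelBC.Basic

/-!
The identity component of the Picard scheme of a proper geometrically normal scheme is proper.
-/

set_option autoImplicit false
set_option backward.isDefEq.respectTransparency false
set_option backward.isDefEq.respectTransparency.types false
set_option linter.style.haveILetI false
set_option maxHeartbeats 1000000

universe u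

open CategoryTheory CategoryTheory.Limits MonoidalCategory CartesianMonoidalCategory MonObj AlgebraicGeometry TopologicalSpace
open Groth.Agent.GrpComp (ept)

noncomputable section

namespace Groth.Agent.PicProper

/-- A morphism from a reduced scheme landing in a closed subscheme factors through it. -/
theorem exists_lift_range {k : Type u} [Field k] {X Y Z : Over (Spec (CommRingCat.of k))} [IsReduced X.left]
    (f : X ⟶ Y) (i : Z ⟶ Y) [IsClosedImmersion i.left] (h : Set.range f.left ⊆ Set.range i.left) :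
    ∃ g : X ⟶ Z, g ≫ i = f := by
  haveI : Surjective (pullback.fst f.left i.left) := ⟨fun x => by
    have : x ∈ Set.range (pullback.fst f.left i.left) := by
      rw [Scheme.Pullback.range_fst]; exact h ⟨x, rfl⟩
    exact this⟩
  haveI := isIso_of_isClosedImmersion_of_surjective (pullback.fst f.left i.left)
  let g := inv (pullback.fst f.left i.left) ≫ pullback.snd f.left i.left
  have hg : g ≫ i.left = f.left := by rw [Category.assoc, ← pullback.condition, IsIso.inv_hom_id_assoc]
  exact ⟨Over.homMk g (by rw [← Over.w i, ← Category.assoc, hg, Over.w f]), Over.OverMorphism.ext hg⟩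

section AlgClosed

variable {k : Type u} [Field k] [IsAlgClosed k] {X : Scheme.{u}} (f : X ⟶ Spec (CommRingCat.of k)) [IsProper f]
  (hX : Pi1.IsNormalScheme X) {P : Over (Spec (CommRingCat.of k))}
  {φ : ∀ T : Over (Spec (CommRingCat.of k)), PicF.Cl (PicF.XT f T) → (T ⟶ P)} (hP : PicRel.IsRelPic f P φ)

include hX hP in
theorem exists_eq_const' [IsSeparated P.hom] {n : Type u} [Finite n] {T : Scheme.{u}}
    (j : T ⟶ 𝔸(n; Spec (CommRingCat.of k))) [IsOpenImmersion j] [Nonempty T] (ψ : T ⟶ P.left)
    (hψ : ψ ≫ P.hom = j ≫ (𝔸(n; Spec (CommRingCat.of k)) ↘ Spec (CommRingCat.of k))) :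
    ∃ q : Spec (CommRingCat.of k) ⟶ P.left, q ≫ P.hom = 𝟙 _ ∧ ψ = (ψ ≫ P.hom) ≫ q := by
  haveI : Nonempty ↥(affOpen j.opensRange).left := ⟨j.isoOpensRange.hom (Classical.arbitrary T)⟩
  obtain ⟨q, hq, h⟩ := exists_eq_const f hX hP j.opensRange (Over.homMk (j.isoOpensRange.inv ≫ ψ) (by
    show (j.isoOpensRange.inv ≫ ψ) ≫ P.hom = j.opensRange.ι ≫ _
    rw [Category.assoc, hψ, ← Category.assoc, Scheme.Hom.isoOpensRange_inv_comp]))
  refine ⟨q, hq, ?_⟩
  change j.isoOpensRange.inv ≫ ψ = _ at h
  rw [← cancel_epi j.isoOpensRange.inv, h, hψ, Category.assoc, ← Category.assoc j.isoOpensRange.inv,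
    Scheme.Hom.isoOpensRange_inv_comp]
  rfl

variable [GrpObj P] [IsCommMonObj P] [LocallyOfFiniteType P.hom]

include hX hP in
theorem isProper_subgroup {G : Over (Spec (CommRingCat.of k))} [GrpObj G] (i : G ⟶ P) [IsMonHom i]
    [IsClosedImmersion i.left] [CompactSpace G.left] : IsProper G.hom := by
  haveI : IsSeparated P.hom := ClosedRep.isSeparated_of_field k P
  haveI : Mono i := GrpField.SchImg.mono_of_isClosedImmersion i
  haveI : IsCommMonObj G := ⟨by
    rw [show μ[G] = fst G G * snd G G from Eq.symm (by rw [Hom.mul_def, lift_fst_snd, Category.id_comp]),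
      MonObj.comp_mul, braiding_hom_fst, braiding_hom_snd, ← cancel_mono i, MonObj.mul_comp, MonObj.mul_comp]
    exact mul_comm (G := _) _ _⟩
  haveI : LocallyOfFiniteType G.hom := by rw [← Over.w i]; infer_instance
  haveI : IsSeparated G.hom := by rw [← Over.w i]; infer_instance
  haveI : QuasiCompact G.hom := (quasiCompact_iff_compactSpace _).2 ‹_›
  by_contra hnp
  obtain ⟨g, hg⟩ := Chev.exists_nonconst_ratFunc hnp
  let F := RatFunc k
  let g' : Spec (CommRingCat.of F) ⟶ P.left := g.left ≫ i.left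
  have hg' : g' ≫ P.hom = Spec.map (CommRingCat.ofHom (algebraMap k F)) := by
    rw [Category.assoc, Over.w i]; exact Over.w g
  let x := g' (IsLocalRing.closedPoint F)
  obtain ⟨W, hW, hxW, -⟩ := exists_isAffineOpen_mem_and_subset (show x ∈ (⊤ : P.left.Opens) from trivial)
  haveI : IsAffine W := hW
  let gW : Spec (CommRingCat.of F) ⟶ W := IsOpenImmersion.lift W.ι g' (by
    rw [Scheme.Opens.range_ι]
    rintro _ ⟨z, rfl⟩
    rw [Subsingleton.elim (α := PrimeSpectrum F) z (IsLocalRing.closedPoint F)]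
    exact hxW)
  have hgW : gW ≫ W.ι = g' := IsOpenImmersion.lift_fac _ _ _
  let A := Γ((W : Scheme.{u}), ⊤)
  let χ : CommRingCat.of k ⟶ A := (Scheme.ΓSpecIso _).inv ≫ (W.ι ≫ P.hom).appTop
  have hχ : (W : Scheme.{u}).isoSpec.hom ≫ Spec.map χ = W.ι ≫ P.hom := by
    rw [Spec.map_comp, ← Category.assoc, Scheme.isoSpec_hom_naturality, Category.assoc]
    simp [Scheme.isoSpec_Spec_hom]
  letI : Algebra k A := χ.hom.toAlgebra
  let a : A ⟶ CommRingCat.of F := Spec.preimage (gW ≫ (W : Scheme.{u}).isoSpec.hom)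
  have ha : χ ≫ a = CommRingCat.ofHom (algebraMap k F) := by
    apply Spec.map_injective
    rw [Spec.map_comp, Spec.map_preimage, Category.assoc, hχ, reassoc_of% hgW, hg']
  let a' : A →ₐ[k] F := ⟨a.hom, fun r => congr($ha r)⟩
  haveI : Algebra.FiniteType k A := by
    have h : LocallyOfFiniteType (Spec.map χ) := by
      rw [← MorphismProperty.cancel_left_of_respectsIso (P := @LocallyOfFiniteType) (W : Scheme.{u}).isoSpec.hom, hχ]
      infer_instance
    exact (HasRingHomProperty.Spec_iff (P := @LocallyOfFiniteType)).1 h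
  obtain ⟨s, hs⟩ := (‹Algebra.FiniteType k A›).out
  let M := MvPolynomial PUnit.{u + 1} k
  let emb : M →ₐ[k] F := (IsScalarTower.toAlgHom k (Polynomial k) F).comp
    (MvPolynomial.uniqueAlgEquiv k PUnit.{u + 1}).toAlgHom
  have hemb : Function.Injective emb :=
    (IsFractionRing.injective (Polynomial k) F).comp (MvPolynomial.uniqueAlgEquiv k PUnit.{u + 1}).injective
  have hfr : ∀ z : F, ∃ num den : M, den ≠ 0 ∧ z * emb den = emb num := fun z => by
    obtain ⟨p, q, hq, rfl⟩ := IsFractionRing.div_surjective (Polynomial k) z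
    let e := MvPolynomial.uniqueAlgEquiv k PUnit.{u + 1}
    have hq0 : q ≠ 0 := nonZeroDivisors.ne_zero hq
    refine ⟨e.symm p, e.symm q, fun h => hq0 (by simpa using congrArg e h), ?_⟩
    show _ * algebraMap (Polynomial k) F (e (e.symm q)) = algebraMap (Polynomial k) F (e (e.symm p))
    rw [AlgEquiv.apply_symm_apply, AlgEquiv.apply_symm_apply]
    exact div_mul_cancel₀ _ ((map_ne_zero_iff _ (IsFractionRing.injective (Polynomial k) F)).2 hq0)
  choose num den hden hnd using hfr
  let h : M := ∏ b ∈ s, den (a' b)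
  have hh : h ≠ 0 := Finset.prod_ne_zero_iff.2 fun b _ => hden _
  let L := Localization.Away h
  have hu : IsUnit (emb h) := isUnit_iff_ne_zero.2 ((map_ne_zero_iff emb hemb).2 hh)
  let ρ : L →ₐ[k] F :=
    { IsLocalization.Away.lift (S := L) h (g := emb.toRingHom) hu with
      commutes' := fun r => by
        show IsLocalization.Away.lift (S := L) h (g := emb.toRingHom) hu (algebraMap k L r) = _
        rw [IsScalarTower.algebraMap_apply k M L, IsLocalization.Away.lift_eq]
        exact emb.commutes r }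
  have hρ : Function.Injective ρ := by
    show Function.Injective (IsLocalization.Away.lift (S := L) h (g := emb.toRingHom) hu)
    exact (IsLocalization.lift_injective_iff _).2 fun x y => ⟨fun e => congrArg emb (IsLocalization.injective L
      (powers_le_nonZeroDivisors_of_noZeroDivisors hh) e), fun e => congrArg _ (hemb e)⟩
  have hmem : ∀ b : A, a' b ∈ ρ.range := by
    have : (⊤ : Subalgebra k A) ≤ ρ.range.comap a' := by
      rw [← hs, Algebra.adjoin_le_iff]
      intro b hb
      obtain ⟨c, hc⟩ := Finset.dvd_prod_of_mem (fun b => den (a' b)) hb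
      refine ⟨IsLocalization.mk' L (num (a' b) * c) ⟨h, Submonoid.mem_powers h⟩, ?_⟩
      show IsLocalization.lift _ _ = _
      rw [IsLocalization.lift_mk'_spec]
      show emb (num (a' b) * c) = emb h * a' b
      rw [show h = den (a' b) * c from hc, map_mul, map_mul, ← hnd]
      ring
    exact fun b => this trivial
  let aL : A →ₐ[k] L := (AlgEquiv.ofInjective ρ hρ).symm.toAlgHom.comp (a'.codRestrict ρ.range hmem)
  have haL : ρ.comp aL = a' := AlgHom.ext fun b =>
    congrArg Subtype.val ((AlgEquiv.ofInjective ρ hρ).apply_symm_apply ⟨a' b, hmem b⟩)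
  let ψ : Spec (CommRingCat.of L) ⟶ P.left :=
    Spec.map (CommRingCat.ofHom aL.toRingHom) ≫ (W : Scheme.{u}).isoSpec.inv ≫ W.ι
  let j : Spec (CommRingCat.of L) ⟶ 𝔸(PUnit.{u + 1}; Spec (CommRingCat.of k)) :=
    Spec.map (CommRingCat.ofHom (algebraMap M L)) ≫ (AffineSpace.SpecIso PUnit.{u + 1} (CommRingCat.of k)).inv
  haveI : IsOpenImmersion (Spec.map (CommRingCat.ofHom (algebraMap M L))) := IsOpenImmersion.of_isLocalization h
  haveI : IsOpenImmersion j := inferInstance
  let gen : Spec (CommRingCat.of F) ⟶ Spec (CommRingCat.of L) := Spec.map (CommRingCat.ofHom ρ.toRingHom)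
  haveI : Nonempty (Spec (CommRingCat.of L)) := ⟨gen (IsLocalRing.closedPoint F)⟩
  have hψ : ψ ≫ P.hom = j ≫ (𝔸(PUnit.{u + 1}; Spec (CommRingCat.of k)) ↘ Spec (CommRingCat.of k)) := by
    simp only [ψ, j, Category.assoc, AffineSpace.SpecIso_inv_over]
    rw [← hχ, Iso.inv_hom_id_assoc, ← Spec.map_comp, ← Spec.map_comp]
    congr 1
    ext r
    show aL (algebraMap k A r) = algebraMap M L (algebraMap k M r)
    rw [aL.commutes, ← IsScalarTower.algebraMap_apply]
  obtain ⟨q, hq, hqψ⟩ := exists_eq_const' f hX hP j ψ hψ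
  have hgen : gen ≫ ψ = g' := by
    have e : gen ≫ Spec.map (CommRingCat.ofHom aL.toRingHom) = Spec.map a := by
      rw [← Spec.map_comp]
      congr 1
      ext b
      exact congr($haL b)
    show gen ≫ _ ≫ _ ≫ _ = _
    rw [reassoc_of% e, Spec.map_preimage]
    simp [hgW]
  have hg'q : g' = Spec.map (CommRingCat.ofHom (algebraMap k F)) ≫ q := by
    have h2 := congrArg (gen ≫ ·) hqψ
    have h3 : g' = (g' ≫ P.hom) ≫ q := by rw [← hgen]; simpa only [Category.assoc] using h2
    rwa [hg'] at h3
  let qP : 𝟙_ (Over (Spec (CommRingCat.of k))) ⟶ P := Over.homMk q hq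
  haveI : IsReduced (𝟙_ (Over (Spec (CommRingCat.of k)))).left := inferInstanceAs (IsReduced (Spec (CommRingCat.of k)))
  obtain ⟨c, hc⟩ := exists_lift_range qP i (by
    rintro _ ⟨z, rfl⟩
    refine ⟨g.left (IsLocalRing.closedPoint F), ?_⟩
    refine (Scheme.Hom.comp_apply _ _ _).symm.trans ?_
    show g' _ = _
    rw [hg'q, Scheme.Hom.comp_apply]
    congr 1
    exact Subsingleton.elim (α := PrimeSpectrum k) _ _)
  refine hg c ((cancel_mono i).1 (Over.OverMorphism.ext ?_))
  rw [Chev.rat, Category.assoc, hc]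
  exact hg'q

include hX hP in
/-- The identity component is universally closed. -/
theorem universallyClosed_component (U : P.left.Opens) (hU : (U : Set P.left) = connectedComponent (ept P)) :
    UniversallyClosed (U.ι ≫ P.hom) := by
  obtain ⟨G, hG, i, hi, hic, -, hr, -, hcpt, -⟩ := GrpComp.exists_identity_subgroup P
  haveI := hi; haveI := hic; haveI := hcpt
  haveI := isProper_subgroup f hX hP i
  let l : G.left ⟶ U := IsOpenImmersion.lift U.ι i.left (by rw [Scheme.Opens.range_ι, hr, hU])
  have hl : l ≫ U.ι = i.left := IsOpenImmersion.lift_fac _ _ _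
  haveI : Surjective l := ⟨fun z => by
    obtain ⟨y, hy⟩ : (z.1 : P.left) ∈ Set.range i.left := by rw [hr, ← hU]; exact z.2
    exact ⟨y, Subtype.ext ((congrArg (fun m : G.left ⟶ P.left => m y) hl).trans hy)⟩⟩
  haveI : UniversallyClosed (l ≫ U.ι ≫ P.hom) := by rw [reassoc_of% hl, Over.w i]; infer_instance
  exact UniversallyClosed.of_comp_surjective l _

end AlgClosed

variable {k : Type u} [Field k] {X : Scheme.{u}} (f : X ⟶ Spec (CommRingCat.of k)) [IsProper f]

omit [IsProper f] in
/-- The point of the class of the structure sheaf is the identity point. -/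
theorem ept_eq {P : Over (Spec (CommRingCat.of k))} [GrpObj P]
    {φ : ∀ T : Over (Spec (CommRingCat.of k)), PicF.Cl (PicF.XT f T) → (T ⟶ P)} (hP : PicRel.IsRelPic f P φ)
    (hη : (η[P] : 𝟙_ _ ⟶ P) = φ (𝟙_ _) (PicLoc.unitPicSet _).1) (pt : ↥(Spec (CommRingCat.of k))) :
    ept P = (φ (Over.mk (𝟙 _)) (PicF.cl (Coh.structureModule _))).left.base pt := by
  show η[P].left (IsLocalRing.closedPoint k) = _
  rw [hη, show pt = IsLocalRing.closedPoint k from Subsingleton.elim (α := PrimeSpectrum k) _ _]
  rfl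

/-- **`Pic⁰` of a proper geometrically normal scheme is proper.** -/
theorem isProper_component (hnorm : ∀ (k' : Type u) [Field k'] [Algebra k k'], Module.Finite k k' →
      Pi1.IsNormalScheme (pullback f (Spec.map (CommRingCat.ofHom (algebraMap k k')))))
    (P : Over (Spec (CommRingCat.of k))) [LocallyOfFiniteType P.hom] [GrpObj P]
    (φ : ∀ T : Over (Spec (CommRingCat.of k)), PicF.Cl (PicF.XT f T) → (T ⟶ P)) (hP : PicRel.IsRelPic f P φ)
    (hη : (η[P] : 𝟙_ _ ⟶ P) = φ (𝟙_ _) (PicLoc.unitPicSet _).1)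
    (U : P.left.Opens) (hU : (U : Set P.left) = connectedComponent (ept P)) : IsProper (U.ι ≫ P.hom) := by
  let K := AlgebraicClosure k
  let w := GrpComp.acMap k
  let fK := pullback.snd f w
  have hXK : Pi1.IsNormalScheme (pullback f w) := isNormalScheme_bc f hnorm K
  haveI : LocallyOfFiniteType (GrpComp.bc P).hom := inferInstanceAs (LocallyOfFiniteType (pullback.snd P.hom w))
  let φK : ∀ T : Over (Spec (CommRingCat.of K)), PicF.Cl (PicF.XT fK T) → (T ⟶ GrpComp.bc P) := fun T c =>
    Over.homMk (pullback.lift (φ (PicRelBC.bar w T) (PicF.pullCl (PicRelBC.eT f w T).hom c)).left T.hom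
      (Over.w (φ (PicRelBC.bar w T) (PicF.pullCl (PicRelBC.eT f w T).hom c)))) (pullback.lift_snd _ _ _)
  have hPK : PicRel.IsRelPic fK (GrpComp.bc P) φK :=
    PicRelBC.isRelPic_baseChange f w P φ hP φK fun T c => pullback.lift_fst _ _ _
  obtain ⟨z, hz, hpre⟩ := GrpComp.preimage_connectedComponent_ept P
  obtain ⟨G, hηK, -, hcomm⟩ := PicLft.exists_grpObj_comm hPK
  let UK : (GrpComp.bc P).left.Opens := GrpComp.proj P ⁻¹ᵁ U
  have hUK : (UK : Set (GrpComp.bc P).left) =
      connectedComponent (@GrpComp.ept _ _ (GrpComp.bc P) G) := by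
    show GrpComp.proj P ⁻¹' (U : Set P.left) = _
    rw [hU, hpre]
    congr 1
    refine GrpField.subsingleton_preimage_section P.hom w η[P].left (Over.w η[P]) (IsLocalRing.closedPoint k) hz ?_
    show GrpComp.proj P _ = ept P
    unfold GrpComp.ept
    rw [hηK, hη]
    let T0 : Over (Spec (CommRingCat.of K)) := 𝟙_ _
    let t : PicRelBC.bar w T0 ⟶ 𝟙_ (Over (Spec (CommRingCat.of k))) := toUnit _
    have hu : φ (PicRelBC.bar w T0) (PicF.pullCl (PicRelBC.eT f w T0).hom (PicLoc.unitPicSet _).1) =
        t ≫ φ (𝟙_ _) (PicLoc.unitPicSet _).1 := by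
      rw [← hP.natural _ _ _ _ (PicLoc.unitPicSet _).2]
      exact congrArg _ ((congrArg Subtype.val (PicLoc.invCl_map_unitPicSet (PicRelBC.eT f w T0).hom)).trans
        (congrArg Subtype.val (PicLoc.invCl_map_unitPicSet (PicF.XTmap f t))).symm)
    show (φK T0 (PicLoc.unitPicSet _).1).left.base _ ∈ _ ⁻¹' {_}
    rw [Set.mem_preimage, Set.mem_singleton_iff]
    refine (Scheme.Hom.comp_apply _ _ _).symm.trans ?_
    rw [show (φK T0 (PicLoc.unitPicSet _).1).left ≫ GrpComp.proj P = _ from pullback.lift_fst _ _ _, hu,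
      Over.comp_left, Scheme.Hom.comp_apply]
    congr 1
    exact Subsingleton.elim (α := PrimeSpectrum k) _ _
  letI := G
  haveI := hcomm
  haveI := universallyClosed_component fK hXK hPK UK hUK
  haveI : IsSeparated P.hom := ClosedRep.isSeparated_of_field k P
  haveI : IsSeparated (pullback.snd P.hom w) := inferInstance
  haveI : IsSeparated (UK.ι ≫ (GrpComp.bc P).hom) := inferInstanceAs (IsSeparated (UK.ι ≫ pullback.snd P.hom w))
  haveI : LocallyOfFiniteType (UK.ι ≫ (GrpComp.bc P).hom) := inferInstanceAs (LocallyOfFiniteType (UK.ι ≫ pullback.snd P.hom w))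
  haveI : IsProper (UK.ι ≫ (GrpComp.bc P).hom) := {}
  haveI : IsProper ((GrpComp.proj P ⁻¹ᵁ U).ι ≫ pullback.snd P.hom w) := ‹IsProper (UK.ι ≫ (GrpComp.bc P).hom)›
  exact ProperAt.isProper_of_fieldExt (CommRingCat.ofHom (algebraMap k K))
    ((isPullback_morphismRestrict (GrpComp.proj P) U).paste_vert (IsPullback.of_hasPullback P.hom w))

end Groth.Agent.PicProper
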